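import Cfsg.Agent.NFP.Act
import Cfsg.Agent.S0205
import Cfsg.Agent.Grp.Frattini

/-!
Operator groups `A = K H` with `K` normal of order prime to `|G|` and `H` nilpotent (S4042):
Glauberman's lemma in the fixed point free case and its consequences.
-/

set_option autoImplicit false

namespace Cfsg.Agent.NFK

open Subgroup Cfsg Cfsg.Agent.PLocal.Amb Cfsg.Agent.Solv.Ext Cfsg.Agent.NFP
open scoped Pointwise

universe u

/-- `A` is the product of a normal subgroup of order prime to `n` and a nilpotent subgroup. -/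
def KN (A : Type*) [Group A] (n : ℕ) : Prop :=
  ∃ K H : Subgroup A, K.Normal ∧ (Nat.card K).Coprime n ∧ Group.IsNilpotent H ∧ K ⊔ H = ⊤

variable {A : Type*} {G : Type u} [Group A] [Group G]

theorem KN.of_dvd {n m : ℕ} (h : KN A n) (hm : m ∣ n) : KN A m :=
  let ⟨K, H, h1, h2, h3, h4⟩ := h
  ⟨K, H, h1, h2.coprime_dvd_right hm, h3, h4⟩

theorem KN.of_nil (hA : Group.IsNilpotent A) (n : ℕ) : KN A n :=
  ⟨⊥, ⊤, inferInstance, by simp, inferInstance, bot_sup_eq _⟩

theorem KN.of_cop {n : ℕ} (h : (Nat.card A).Coprime n) : KN A n :=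
  ⟨⊤, ⊥, inferInstance, by rwa [card_top], inferInstance, top_sup_eq _⟩

/-- a minimal supplement is nilpotent -/
theorem KN.mk' [Finite A] {n : ℕ} {Q : Type*} [Group Q] (f : A →* Q) (hQ : Group.IsNilpotent Q)
    (hc : (Nat.card f.ker).Coprime n) : KN A n := by
  obtain ⟨H, hH, hmin⟩ := (wellFounded_lt (α := Subgroup A)).has_min {H | f.ker ⊔ H = ⊤}
    ⟨⊤, by simp⟩
  refine ⟨f.ker, H, inferInstance, hc, ?_, hH⟩
  let g := (f.comp H.subtype).rangeRestrict
  have hk : g.ker ≤ frattini H := by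
    refine le_iInf₂ fun M hM => ?_
    by_contra hle
    have h1 : g.ker ⊔ M = ⊤ := hM.2 _ (lt_of_le_of_ne le_sup_right fun e => hle (e ▸ le_sup_left))
    refine hmin (M.map H.subtype) ?_ (lt_of_le_of_ne (map_subtype_le M) fun e => hM.1 ?_)
    · rw [Set.mem_ofPred_eq, eq_top_iff, ← hH, sup_le_iff]
      refine ⟨le_sup_left, ?_⟩
      conv_lhs => rw [← H.range_subtype, MonoidHom.range_eq_map, ← h1, Subgroup.map_sup]
      refine sup_le_sup_right ?_ _
      rintro _ ⟨x, hx, rfl⟩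
      exact congrArg Subtype.val hx
    · exact map_injective H.subtype_injective (by rw [e, ← MonoidHom.range_eq_map, range_subtype])
  exact Group.isNilpotent_top.1 (Grp.isNilpotent_of_map_of_ker_le_frattini g
    (MonoidHom.rangeRestrict_surjective _) hk ⊤ inferInstance)

theorem KN.sub [Finite A] {n : ℕ} (h : KN A n) (B : Subgroup A) : KN B n := by
  obtain ⟨K, H, h1, h2, h3, h4⟩ := h
  have hQ : Group.IsNilpotent (A ⧸ K) := by
    refine Group.nilpotent_of_surjective ((QuotientGroup.mk' K).comp H.subtype) ?_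
    rw [← MonoidHom.range_eq_top, MonoidHom.range_comp, range_subtype, eq_top_iff,
      ← map_top_of_surjective _ (QuotientGroup.mk'_surjective K), ← h4, Subgroup.map_sup,
      sup_le_iff]
    exact ⟨by rw [QuotientGroup.map_mk'_self]; exact bot_le, le_rfl⟩
  refine KN.mk' ((QuotientGroup.mk' K).comp B.subtype) hQ (h2.coprime_dvd_left ?_)
  rw [← MonoidHom.comap_ker, QuotientGroup.ker_mk']
  exact card_comap_dvd_of_injective K B.subtype B.subtype_injective

theorem solv_or [Finite A] [Finite G] (h : (Nat.card A).Coprime (Nat.card G)) :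
    Group.IsSolvable A ∨ Group.IsSolvable G := by
  by_cases h2 : Odd (Nat.card A)
  · exact Or.inl (S0205.result h2)
  · refine Or.inr (S0205.result ?_)
    rw [Nat.not_odd_iff_even, even_iff_two_dvd] at h2
    exact Nat.coprime_two_left.1 (h.coprime_dvd_left h2)

theorem gen {K H : Subgroup A} (hs : K ⊔ H = ⊤) {Y : Type*} [MulAction A Y] (y : Y)
    (a1 : ∀ a : K, a • y = y) (a2 : ∀ a : H, a • y = y) (a : A) : a • y = y := by
  have : K ⊔ H ≤ MulAction.stabilizer A y := sup_le (fun b hb => a1 ⟨b, hb⟩) fun b hb => a2 ⟨b, hb⟩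
  exact this (hs ▸ mem_top a)

variable [MulDistribMulAction A G] [Finite A] [Finite G]

theorem KN.fp_exists {X : Type*} [MulAction A X] [MulAction G X]
    (hc : ∀ (a : A) (g : G) (x : X), a • g • x = (a • g) • a • x) (L : Subgroup G)
    (hA : KN A (Nat.card L)) (hL : Inv A L) (hfix : ∀ g ∈ L, (∀ a : A, a • g = g) → g = 1)
    (x : X) (hx : ∀ a : A, ∃ k ∈ L, a • x = k • x) : ∃ k ∈ L, ∀ a : A, a • k • x = k • x := by
  obtain ⟨K, H, hn, hcop, hH, hs⟩ := hA
  have hcK : ∀ (a : K) (g : G) (x : X), a • g • x = (a • g) • a • x := fun a => hc a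
  obtain ⟨k, hk, h1⟩ := glauberman_exists (A := K) hcK L (hL.subgroup K) hcop (solv_or hcop) x
    fun a => hx a
  have hC : Inv A (L ⊓ FixedPoints.subgroup K G) := hL.inf (inv_fixedPoints_of_normal K)
  obtain ⟨c, hcm, h2⟩ := NFP.fp_exists (A := H) (G := G) (X := X) hH (fun a => hc a)
    (L ⊓ FixedPoints.subgroup K G) (hC.subgroup H)
    (fun g hg h => hfix g hg.1 (gen hs g hg.2 h)) (k • x) (fun a => by
      obtain ⟨l, hl, e⟩ := hx a
      have e1 : (a : A) • k • x = ((a : A) • k * l * k⁻¹) • k • x := by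
        rw [hc, e, mul_smul, mul_smul, inv_smul_smul]
      obtain ⟨c, hc1, hc2, hc3⟩ := glauberman_conj (A := K) hcK L (hL.subgroup K) hcop
        (solv_or hcop) (k • x) h1 _ (mul_mem (mul_mem (hL a k hk) hl) (inv_mem hk)) (fun b => by
          rw [← e1]
          have := h1 ⟨_, hn.conj_mem' _ b.2 a⟩
          change (b : A) • (a : A) • k • x = _
          rw [← mul_smul, show (b : A) * a = a * ((a : A)⁻¹ * b * a) by group, mul_smul]
          exact congrArg _ this)
      exact ⟨c, ⟨hc1, hc2⟩, e1.trans hc3.symm⟩)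
  refine ⟨c * k, mul_mem hcm.1 hk, ?_⟩
  rw [mul_smul]
  refine gen hs _ (fun a => ?_) h2
  rw [hcK, h1 a, hcm.2 a]

/-- fixed cosets are trivial -/
theorem KN.mem {N L : Subgroup G} (hA : KN A (Nat.card L))
    (hfix : ∀ g ∈ L, (∀ a : A, a • g = g) → g = 1) (hN : Inv A N) (hNL : N ≤ L) {g : G}
    (hgL : g ∈ L) (hg : ∀ a : A, g⁻¹ * a • g ∈ N) : g ∈ N := by
  let _ : MulAction G G :=
    { smul := fun k x => x * k⁻¹
      one_smul := fun x => by change x * 1⁻¹ = x; simp
      mul_smul := fun a b x => by change x * (a * b)⁻¹ = x * b⁻¹ * a⁻¹; group }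
  obtain ⟨k, hk, h⟩ := KN.fp_exists (A := A) (G := G) (X := G) (fun a k x => by
    change a • (x * k⁻¹) = a • x * (a • k)⁻¹
    rw [smul_mul', smul_inv']) N (hA.of_dvd (card_dvd_of_le hNL)) hN
    (fun g hg h => hfix g (hNL hg) h) g
    (fun a => ⟨(g⁻¹ * a • g)⁻¹, N.inv_mem (hg a), by
      change a • g = g * (g⁻¹ * a • g)⁻¹⁻¹
      group⟩)
  have : g * k⁻¹ = 1 := hfix _ (mul_mem hgL (inv_mem (hNL hk))) h
  rwa [mul_inv_eq_one.1 this]

theorem KN.syl_unique {L T T' : Subgroup G} (hA : KN A (Nat.card L))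
    (hfix : ∀ g ∈ L, (∀ a : A, a • g = g) → g = 1) (hL : Inv A L) {p : ℕ} [Fact p.Prime]
    (h1 : IsSyl p T L) (h2 : IsSyl p T' L) (h3 : Inv A T) (h4 : Inv A T') : T' = T := by
  obtain ⟨g, hg, rfl⟩ := h2.exists_cj_eq h1
  refine cj_of_mem_normalizer (hA.mem hfix (hL.inf h3.normalizer) inf_le_left hg fun a =>
    mem_inf.2 ⟨mul_mem (inv_mem hg) (hL a g hg), mem_normalizer_of_cj_le ?_⟩).2
  rw [cj_mul, cj_le_iff, inv_inv]
  refine cj_le_iff_forall.2 fun x hx => ?_
  have := h4 a _ (conj_mem_cj g (h3 a⁻¹ x hx))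
  simpa [smul_mul', smul_inv'] using this

theorem KN.exists_syl {L : Subgroup G} (hA : KN A (Nat.card L))
    (hfix : ∀ g ∈ L, (∀ a : A, a • g = g) → g = 1) (hL : Inv A L) (p : ℕ) [Fact p.Prime] :
    ∃ T, IsSyl p T L ∧ Inv A T := by
  obtain ⟨P, hP⟩ := exists_isSyl p L
  let _ : MulAction G (Subgroup G) := MulAction.compHom _ (MulAut.conj : G →* MulAut G)
  obtain ⟨k, hk, h⟩ := KN.fp_exists (A := A) (X := Subgroup G) smul_conj_smul L hA hL hfix P
    (fun a => by
      obtain ⟨k, hk, h⟩ := (isSyl_smul hL hP a).exists_cj_eq hP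
      exact ⟨k, hk, h.symm⟩)
  exact ⟨_, hP.cj_of_mem hk, inv_iff_smul_eq.2 h⟩

theorem KN.quot {V : Subgroup G} [V.Normal] (hA : KN A (Nat.card G))
    (hfix : ∀ g : G, (∀ a : A, a • g = g) → g = 1) (hV : Inv A V)
    [MulDistribMulAction A (G ⧸ V)]
    (hq : ∀ (a : A) (x : G), a • (x : G ⧸ V) = ((a • x : G) : G ⧸ V)) (y : G ⧸ V)
    (h : ∀ a : A, a • y = y) : y = 1 := by
  obtain ⟨x, rfl⟩ := QuotientGroup.mk_surjective y
  refine (QuotientGroup.eq_one_iff x).2 (KN.mem (L := ⊤) (by rwa [card_top]) (fun g _ => hfix g) hV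
    le_top trivial fun a => ?_)
  rw [← QuotientGroup.eq, ← hq]
  exact (h a).symm

end Cfsg.Agent.NFK
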